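import Cfsg.Agent.GTwoFour.Rep
import Cfsg.Agent.Chevalley.GroupOrder
import Cfsg.Agent.Chevalley.WeylData
import Cfsg.Agent.ChevFieldAut.FixedPoints
import Cfsg.Agent.Weyl.Poincare
import Cfsg.Agent.Weyl.RootG2
import Cfsg.Agent.PrimeGraph.ModuleExtension
import Mathlib.GroupTheory.Sylow
import Mathlib.FieldTheory.Finite.GaloisField

/-!
# Primes and fixed points in `G₂(4)`
-/

set_option autoImplicit false

namespace CfsgLib.GTwoFour

open Cfsg.Lie CfsgLib.CriticalFive CfsgLib.Chevalley Matrix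
open scoped MatrixGroups Pointwise

/-- The order of `G₂(4)`, up to the order of the diagonal subgroup. -/
theorem exists_natCard_eq :
    ∃ k, k ∣ 9 ∧ Nat.card ↥(chevG2.group F4) = 4096 * k * 6825 := by
  have hW : GoodWeyl chevG2 := goodWeyl_of_mem (by simp)
  have : Finite CoxeterMatrix.G₂.Group :=
    Nat.finite_of_card_ne_zero (by rw [CfsgLib.Weyl.certG2_good.card_group]; decide +kernel)
  have := Fintype.ofFinite CoxeterMatrix.G₂.Group
  refine ⟨Nat.card ↥(chevG2.diagonalSubgroup F4), ?_, ?_⟩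
  · rw [diagonalSubgroup_eq_range hW]
    refine (Subgroup.card_range_dvd _).trans (dvd_of_eq ?_)
    rw [Nat.card_eq_fintype_card]
    decide +kernel
  · refine (@natCard_group chevG2 _ _ _ F4 _ hW CfsgLib.Weyl.rootG2_good _ this).trans ?_
    rw [Nat.card_eq_fintype_card (α := F4), F4.card_eq,
      @CfsgLib.Weyl.RootGood.sum_pow_length_degrees ℕ _ _ _ _ _ CfsgLib.Weyl.rootG2_good this 4
        [2, 6] (by decide +kernel)]
    rfl

theorem prime_dvd_cases {r : ℕ} (hr : r.Prime) (h : r ∣ Nat.card ↥(chevG2.group F4)) :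
    r = 2 ∨ r = 3 ∨ r = 5 ∨ r = 7 ∨ r = 13 := by
  obtain ⟨k, hk, hc⟩ := exists_natCard_eq
  have hd : r ∣ 2 ^ 12 * 3 ^ 3 * 5 ^ 2 * 7 * 13 := by
    refine h.trans ?_
    rw [hc]
    exact (Nat.mul_dvd_mul_right (Nat.mul_dvd_mul_left 4096 hk) 6825).trans (by norm_num)
  rcases hr.dvd_mul.1 hd with hd | hd
  · rcases hr.dvd_mul.1 hd with hd | hd
    · rcases hr.dvd_mul.1 hd with hd | hd
      · rcases hr.dvd_mul.1 hd with hd | hd
        · exact .inl ((Nat.prime_dvd_prime_iff_eq hr (by norm_num)).1 (hr.dvd_of_dvd_pow hd))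
        · exact .inr (.inl ((Nat.prime_dvd_prime_iff_eq hr (by norm_num)).1 (hr.dvd_of_dvd_pow hd)))
      · exact .inr (.inr (.inl ((Nat.prime_dvd_prime_iff_eq hr (by norm_num)).1 (hr.dvd_of_dvd_pow hd))))
    · exact .inr (.inr (.inr (.inl ((Nat.prime_dvd_prime_iff_eq hr (by norm_num)).1 hd))))
  · exact .inr (.inr (.inr (.inr ((Nat.prime_dvd_prime_iff_eq hr (by norm_num)).1 hd))))

theorem not_sq_dvd {p : ℕ} (hp : p = 7 ∨ p = 13) :
    ¬p ^ 2 ∣ Nat.card ↥(chevG2.group F4) := by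
  obtain ⟨k, hk, hc⟩ := exists_natCard_eq
  intro h
  have h' : p ^ 2 ∣ 4096 * 9 * 6825 :=
    (hc ▸ h).trans (Nat.mul_dvd_mul_right (Nat.mul_dvd_mul_left 4096 hk) 6825)
  rcases hp with rfl | rfl
  · exact absurd h' (by decide +kernel)
  · exact absurd h' (by decide +kernel)

/-- If a Sylow subgroup of prime order acts without fixed vectors in one conjugate, so do all. -/
theorem forall_mulVec_ne {L : Type*} [Group L] [Finite L] (ρ : L →* GL (Fin 6) F4) {p : ℕ}
    (hp : p.Prime) (hsq : ¬p ^ 2 ∣ Nat.card L) {g₀ : L} (hg₀ : orderOf g₀ = p) {N : M6}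
    (hN : N * ((ρ g₀ : M6) - 1) = 1) {g : L} (hg : orderOf g = p) {v : Fin 6 → F4}
    (hv : (ρ g : M6) *ᵥ v = v) : v = 0 := by
  have := Fact.mk hp
  have hcard : ∀ x : L, orderOf x = p →
      Nat.card ↥(Subgroup.zpowers x) = p ^ (Nat.card L).factorization p := by
    intro x hx
    rw [Nat.card_zpowers, hx]
    have h1 : 1 ≤ (Nat.card L).factorization p :=
      (hp.pow_dvd_iff_le_factorization Nat.card_pos.ne').1 (by
        rw [pow_one]
        exact hx ▸ orderOf_dvd_natCard x)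
    have h2 : ¬2 ≤ (Nat.card L).factorization p := fun h =>
      hsq ((hp.pow_dvd_iff_le_factorization Nat.card_pos.ne').2 h)
    rw [show (Nat.card L).factorization p = 1 by omega, pow_one]
  obtain ⟨c, hc⟩ := MulAction.exists_smul_eq L (Sylow.ofCard _ (hcard g hg))
    (Sylow.ofCard _ (hcard g₀ hg₀))
  have hmem : g₀ ∈ MulAut.conj c • Subgroup.zpowers g := by
    have := congrArg (fun P : Sylow p L => (P : Subgroup L)) hc
    simp only [Sylow.coe_subgroup_smul, Sylow.ofCard] at this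
    rw [show MulAut.conj c • Subgroup.zpowers g = Subgroup.zpowers g₀ from this]
    exact Subgroup.mem_zpowers g₀
  obtain ⟨y, hy, hyc⟩ := Subgroup.mem_map.1 hmem
  obtain ⟨k, rfl⟩ := mem_powers_iff_mem_zpowers.2 hy
  have hyc' : g₀ = c * g ^ k * c⁻¹ := hyc.symm
  have hk : ∀ n : ℕ, ((ρ g : M6) ^ n) *ᵥ v = v := by
    intro n
    induction n with
    | zero => simp
    | succ n ih => rw [pow_succ, ← mulVec_mulVec, hv, ih]
  set w := (ρ c : M6) *ᵥ v with hw
  have hfix : (ρ g₀ : M6) *ᵥ w = w := by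
    rw [hw, mulVec_mulVec, ← Units.val_mul, ← map_mul, hyc', inv_mul_cancel_right, map_mul,
      map_pow, Units.val_mul, Units.val_pow_eq_pow_val, ← mulVec_mulVec, hk]
  have hw0 : w = 0 := by
    have := congrArg (fun M : M6 => M *ᵥ w) hN
    simp only [← mulVec_mulVec, sub_mulVec, one_mulVec, hfix, sub_self, mulVec_zero] at this
    exact this.symm
  have := congrArg (fun x => ((ρ c⁻¹ : GL (Fin 6) F4) : M6) *ᵥ x) hw0
  rwa [hw, mulVec_mulVec, ← Units.val_mul, ← map_mul, inv_mul_cancel, map_one, Units.val_one,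
    one_mulVec, mulVec_zero] at this

/-- A root index from a natural number below twelve. -/
def toRoot (r : ℕ) : Fin chevG2.nroots := if h : r < chevG2.nroots then ⟨r, h⟩ else ⟨0, by decide⟩

theorem exists_rep_eq {w : List (ℕ × F4)} (hw : ∀ p ∈ w, p.1 < chevG2.nroots) :
    ∃ g : ↥(chevG2.group F4), (rep g : M6) = wordMat6 w := by
  obtain ⟨g, hg⟩ := exists_rep_eq_wordMat (w.map fun p => (toRoot p.1, p.2))
  refine ⟨g, ?_⟩
  rw [hg, wordMat6, List.map_map]
  congr 1
  exact List.map_congr_left fun p hp => by simp [toRoot, hw p hp]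

theorem orderOf_rep (g : ↥(chevG2.group F4)) : orderOf (rep g : M6) = orderOf g := by
  rw [orderOf_units, orderOf_injective rep rep_injective]

theorem exists_orderOf_two_mul {w : List (ℕ × F4)} {r : ℕ} (hr : r.Prime)
    (hw : ∀ p ∈ w, p.1 < chevG2.nroots) (h1 : wordMat6 w ^ (2 * r) = 1)
    (h2 : wordMat6 w ^ r ≠ 1) (h3 : wordMat6 w ^ 2 ≠ 1) :
    ∃ g : ↥(chevG2.group F4), orderOf g = 2 * r := by
  obtain ⟨g, hg⟩ := exists_rep_eq hw
  refine ⟨g, ?_⟩
  rw [← orderOf_rep, hg]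
  refine orderOf_eq_of_pow_and_pow_div_prime (by have := hr.pos; omega) h1 fun p hp hd => ?_
  rcases hp.dvd_mul.1 hd with hd | hd
  · rw [(Nat.prime_dvd_prime_iff_eq hp Nat.prime_two).1 hd, Nat.mul_div_cancel_left _ two_pos]
    exact h2
  · rw [(Nat.prime_dvd_prime_iff_eq hp hr).1 hd, Nat.mul_div_cancel _ hr.pos]
    exact h3

theorem edge_of_fixed (g : ↥(chevG2.group F4)) (r : ℕ) (hr : r.Prime) (hr2 : r ≠ 2)
    (hg : orderOf g = r) (v : Fin 6 → F4) (hv : (rep g : M6) *ᵥ v = v) (hv0 : v ≠ 0) :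
    ∃ h : ↥(chevG2.group F4), orderOf h = 2 * r := by
  rcases prime_dvd_cases hr (hg ▸ orderOf_dvd_natCard g) with rfl | rfl | rfl | rfl | rfl
  · exact absurd rfl hr2
  · exact exists_orderOf_two_mul hr (w := word6) (by decide) word6_spec.1 word6_spec.2.1
      word6_spec.2.2
  · exact exists_orderOf_two_mul hr (w := word10) (by decide) word10_spec.1 word10_spec.2.1
      word10_spec.2.2
  · obtain ⟨g₀, hg₀⟩ := exists_rep_eq (w := word7) (by decide)
    refine absurd (forall_mulVec_ne rep hr (not_sq_dvd (.inl rfl)) (g₀ := g₀) ?_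
      (hg₀ ▸ word7_spec.2.2) hg hv) hv0
    rw [← orderOf_rep, hg₀]
    have := Fact.mk hr
    exact orderOf_eq_prime word7_spec.1 word7_spec.2.1
  · obtain ⟨g₀, hg₀⟩ := exists_rep_eq (w := word13) (by decide)
    refine absurd (forall_mulVec_ne rep hr (not_sq_dvd (.inr rfl)) (g₀ := g₀) ?_
      (hg₀ ▸ word13_spec.2.2) hg hv) hv0
    rw [← orderOf_rep, hg₀]
    have := Fact.mk hr
    exact orderOf_eq_prime word13_spec.1 word13_spec.2.1

/-- Groups of unbounded order with the prime graph of `G₂(4)` over the concrete field. -/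
theorem exists_large (N : ℕ) :
    ∃ (H : Type) (_ : Group H) (_ : Finite H), N < Nat.card H ∧
      (∀ r : ℕ, r.Prime → (r ∣ Nat.card ↥(chevG2.group F4) ↔ r ∣ Nat.card H)) ∧
      (∀ r s : ℕ, r.Prime → s.Prime → r ≠ s →
        ((∃ g : ↥(chevG2.group F4), orderOf g = r * s) ↔ (∃ g : H, orderOf g = r * s))) := by
  refine CfsgLib.PrimeGraph.exists_large_same_graph
    (CfsgLib.PrimeGraph.vecAction.comp rep) (V := Multiplicative (Fin 6 → F4)) Nat.prime_two
    (fun v => ?_) ?_ (fun g r hr hr2 hg v hv hv1 => ?_) N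
  · apply Multiplicative.toAdd.injective
    ext i
    simp only [toAdd_pow, toAdd_one, two_smul, Pi.add_apply, Pi.zero_apply]
    exact (by decide : ∀ a : F4, a + a = 0) _
  · obtain ⟨k, -, hc⟩ := exists_natCard_eq
    rw [hc]
    exact (Dvd.intro 2048 (by norm_num) : 2 ∣ 4096).mul_right k |>.mul_right _
  · exact edge_of_fixed g r hr hr2 hg v.toAdd (CfsgLib.PrimeGraph.mulVec_eq_of_vecAction hv)
      fun h => hv1 (Multiplicative.toAdd.injective h)

theorem map_map_id {F K : Type*} [Field F] [Field K] (e : F ≃+* K) (g : GL Ix F) :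
    GeneralLinearGroup.map (e.symm : K →+* F) (GeneralLinearGroup.map (e : F →+* K) g) = g :=
  Units.ext (Matrix.ext fun i j => e.symm_apply_apply _)

/-- The Chevalley groups over isomorphic fields. -/
noncomputable def groupEquiv {F K : Type*} [Field F] [Field K] (e : F ≃+* K) :
    ↥(chevG2.group F) ≃* ↥(chevG2.group K) where
  toFun g := ⟨GeneralLinearGroup.map (e : F →+* K) g.1,
    CfsgLib.ChevFieldAut.map_mem_group _ good_chevG2 g.2⟩
  invFun g := ⟨GeneralLinearGroup.map (e.symm : K →+* F) g.1,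
    CfsgLib.ChevFieldAut.map_mem_group _ good_chevG2 g.2⟩
  left_inv g := Subtype.ext (map_map_id e g.1)
  right_inv g := Subtype.ext (map_map_id e.symm g.1)
  map_mul' a b := Subtype.ext (map_mul _ _ _)

end CfsgLib.GTwoFour
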