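import Cfsg.Agent.CriticalFive.Target
import Cfsg.Prelude.Def_ChevG2
import Mathlib.Data.Matrix.Basis

/-!
# The six-dimensional module of `G₂(4)`

The matrices of the root elements on the natural symplectic module, and the linear map carrying the
adjoint module into its endomorphisms.
-/

set_option autoImplicit false

namespace CfsgLib.GTwoFour

open Cfsg.Lie CfsgLib.CriticalFive Matrix

/-- The six by six matrices over the field with four elements. -/
abbrev M6 : Type := Matrix (Fin 6) (Fin 6) F4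

/-- The coordinates of the adjoint module. -/
abbrev Ix : Type := chevG2.Idx

/-- A cube root of unity. -/
abbrev w1 : F4 := ⟨false, true⟩

/-- The other cube root of unity. -/
abbrev w2 : F4 := ⟨true, true⟩

/-- The positions of the linear part of a root element. -/
def linPos : Array (List (Fin 6 × Fin 6)) :=
  #[[(0, 4), (1, 5)], [(0, 3), (2, 5)], [(1, 3), (2, 4)], [(0, 2), (3, 5)], [(0, 1), (4, 5)], [(1, 2), (3, 4)], [(2, 1), (4, 3)], [(1, 0), (5, 4)], [(2, 0), (5, 3)], [(3, 1), (4, 2)], [(3, 0), (5, 2)], [(4, 0), (5, 1)]]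

/-- The positions of the quadratic part of a root element. -/
def quadPos : Array (List (Fin 6 × Fin 6)) :=
  #[[], [], [(0, 5)], [(1, 4)], [(2, 3)], [], [], [(3, 2)], [(4, 1)], [(5, 0)], [], []]

/-- The root element on the natural module. -/
def rootMat (r : ℕ) (t : F4) : M6 :=
  Matrix.of fun i j => (if i = j then 1 else 0) +
    ((if (i, j) ∈ linPos.getD r [] then t else 0) +
      (if (i, j) ∈ quadPos.getD r [] then t * t else 0))

/-- The positions of the image of a basis vector of the adjoint module. -/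
def basisPos : Ix → List (Fin 6 × Fin 6)
  | .inl i => (#[[(0, 0), (1, 1), (4, 4), (5, 5)], [(1, 1), (2, 2), (3, 3), (4, 4)]] : Array _).getD i.val []
  | .inr r => (#[[(0, 4), (1, 5)], [(0, 3), (2, 5)], [(1, 3), (2, 4)], [(0, 2), (3, 5)], [(0, 1), (4, 5)], [(1, 2), (3, 4)], [(2, 1), (4, 3)], [(1, 0), (5, 4)], [(2, 0), (5, 3)], [(3, 1), (4, 2)], [(3, 0), (5, 2)], [(4, 0), (5, 1)]] : Array _).getD r.val []

/-- The image of a basis vector of the adjoint module. -/
def basisMat (u : Ix) : M6 := Matrix.of fun i j => if (i, j) ∈ basisPos u then 1 else 0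

/-- The positions of the coordinate functionals. -/
def coordPos : Ix → List (Fin 6 × Fin 6)
  | .inl i => (#[[(0, 0)], [(0, 0), (1, 1)]] : Array _).getD i.val []
  | .inr r => (#[[(0, 4)], [(0, 3)], [(1, 3)], [(0, 2)], [(0, 1)], [(1, 2)], [(2, 1)], [(1, 0)], [(2, 0)], [(3, 1)], [(3, 0)], [(4, 0)]] : Array _).getD r.val []

/-- A basis vector of the Cartan part, by number. -/
abbrev il (n : Fin 2) : Ix := Sum.inl ⟨n.val, lt_of_lt_of_eq n.isLt (by rfl)⟩

/-- A root vector, by number. -/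
abbrev ir (n : Fin 12) : Ix := Sum.inr ⟨n.val, lt_of_lt_of_eq n.isLt (by rfl)⟩

/-- A product of images of basis vectors for each matrix unit. -/
def unitWord (i j : Fin 6) : List Ix :=
  (#[[il 0, ir 1, ir 10], [ir 1, ir 9], [il 0, ir 3], [il 0, ir 1], [ir 0, il 1], [ir 0, ir 4], [il 1, ir 7], [il 0, ir 2, ir 9], [il 0, ir 5], [il 0, ir 2], [ir 0, ir 7], [il 1, ir 0], [il 1, ir 8], [ir 1, ir 11], [il 1, ir 1, ir 10], [ir 1, ir 8], [ir 1, ir 7], [il 1, ir 1], [il 1, ir 10], [ir 3, ir 11], [ir 3, ir 10], [il 1, ir 3, ir 8], [ir 3, ir 7], [il 1, ir 3], [il 1, ir 11], [ir 4, ir 11], [il 0, ir 9], [il 0, ir 6], [il 0, ir 6, ir 5], [il 1, ir 4], [ir 7, ir 11], [ir 8, ir 9], [il 0, ir 10], [il 0, ir 8], [ir 7, il 1], [il 0, ir 8, ir 3]] : Array (List Ix)).getD (6 * i.val + j.val) []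

/-- The symplectic form. -/
def formMat : M6 := Matrix.of fun i j => if i.val + j.val = 5 then 1 else 0

/-- A word of order `7`. -/
def word7 : List (ℕ × F4) := [(0, 1), (4, w1), (9, w1)]

/-- The inverse of `word7 - 1`. -/
def inv7 : M6 :=
  !![0, 0, 0, 0, 0, w1;
    0, 0, 0, w2, 0, 0;
    0, 1, 0, 0, w2, 0;
    0, 0, w1, 1, 0, 0;
    1, 0, 0, 1, 1, 0;
    0, 1, 0, 0, 0, 1]

/-- A word of order `13`. -/
def word13 : List (ℕ × F4) := [(6, w1), (0, w2), (8, w2), (9, w1)]

/-- The inverse of `word13 - 1`. -/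
def inv13 : M6 :=
  !![0, w2, w1, w1, 0, 0;
    0, 0, 0, w2, 0, 0;
    0, w2, w1, 1, w2, w1;
    0, w2, w1, w2, 0, w1;
    w1, 1, w2, w2, 1, w2;
    0, w1, 0, 0, 0, 1]

/-- A word of order `6`. -/
def word6 : List (ℕ × F4) := [(1, w1), (10, w2), (3, w2)]

/-- A word of order `10`. -/
def word10 : List (ℕ × F4) := [(9, 1), (4, 1), (7, w1)]

/-- The matrix of a word. -/
def wordMat6 (w : List (ℕ × F4)) : M6 := (w.map fun p => rootMat p.1 p.2).prod

set_option maxRecDepth 100000

theorem formMat_mul_self : formMat * formMat = 1 := by decide +kernel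

theorem rootMat_mul_self : ∀ (r : Fin chevG2.nroots) (t : F4), rootMat r t * rootMat r t = 1 := by
  decide +kernel

theorem rootMat_symp : ∀ (r : Fin chevG2.nroots) (t : F4),
    rootMat r t * formMat * (rootMat r t)ᵀ = formMat := by
  decide +kernel

theorem coord_basis : ∀ u w : Ix,
    ((coordPos u).map fun p => basisMat w p.1 p.2).sum = if w = u then 1 else 0 := by
  decide +kernel

theorem unitWord_prod : ∀ i j : Fin 6,
    ((unitWord i j).map basisMat).prod = Matrix.single i j 1 := by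
  decide +kernel

theorem word7_spec : wordMat6 word7 ^ 7 = 1 ∧ wordMat6 word7 ≠ 1 ∧
    inv7 * (wordMat6 word7 - 1) = 1 := by
  decide +kernel

theorem word13_spec : wordMat6 word13 ^ 13 = 1 ∧ wordMat6 word13 ≠ 1 ∧
    inv13 * (wordMat6 word13 - 1) = 1 := by
  decide +kernel

theorem word6_spec : wordMat6 word6 ^ 6 = 1 ∧ wordMat6 word6 ^ 3 ≠ 1 ∧ wordMat6 word6 ^ 2 ≠ 1 := by
  decide +kernel

theorem word10_spec : wordMat6 word10 ^ 10 = 1 ∧ wordMat6 word10 ^ 5 ≠ 1 ∧
    wordMat6 word10 ^ 2 ≠ 1 := by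
  decide +kernel

end CfsgLib.GTwoFour
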