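import Cfsg.Agent.GTwoFour.Data
import Mathlib.Algebra.BigOperators.Group.List.Lemmas
import Mathlib.Algebra.CharP.Two

/-!
# The adjoint module inside the endomorphisms of the six-dimensional module

All matrices in sight are sums of monomials `t ^ k` at given positions, with coefficients modulo two.
The columns of the root elements are tabulated in this form and checked against the Chevalley data;
the intertwining identity then says that every monomial occurs an even number of times.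
-/

set_option autoImplicit false
set_option maxRecDepth 100000

namespace CfsgLib.GTwoFour

open Cfsg.Lie CfsgLib.CriticalFive Matrix

/-- A monomial `t ^ k` at a position of a six by six matrix. -/
abbrev Mono : Type := Fin 6 × Fin 6 × ℕ

/-- The number of a coordinate of the adjoint module. -/
def ixNum : Ix → ℕ
  | .inl i => i.val
  | .inr r => r.val + 2

/-- The non-zero monomials in a column of a root element. -/
def colTable : Array (Array (List (Ix × ℕ))) :=
  #[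
    #[[(il 0, 0)], [(il 1, 0), (ir 0, 1)], [(ir 0, 0)], [(ir 1, 0)], [(ir 2, 0)], [(ir 3, 0)], [(ir 4, 0)], [(ir 5, 0)], [(ir 6, 0), (ir 1, 1)], [(ir 7, 0)], [(ir 8, 0), (ir 2, 1)], [(ir 9, 0), (ir 3, 1)], [(ir 10, 0), (ir 5, 1)], [(ir 11, 0), (il 0, 1), (ir 0, 2)]],
    #[[(il 0, 0), (ir 1, 1)], [(il 1, 0), (ir 1, 1)], [(ir 0, 0)], [(ir 1, 0)], [(ir 2, 0)], [(ir 3, 0)], [(ir 4, 0)], [(ir 5, 0), (ir 0, 1)], [(ir 6, 0)], [(ir 7, 0), (ir 2, 1)], [(ir 8, 0)], [(ir 9, 0), (ir 4, 1)], [(ir 10, 0), (il 0, 1), (il 1, 1), (ir 1, 2)], [(ir 11, 0), (ir 6, 1)]],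
    #[[(il 0, 0), (ir 2, 1)], [(il 1, 0)], [(ir 0, 0)], [(ir 1, 0)], [(ir 2, 0)], [(ir 3, 0), (ir 0, 1)], [(ir 4, 0), (ir 1, 1)], [(ir 5, 0)], [(ir 6, 0)], [(ir 7, 0), (ir 0, 2)], [(ir 8, 0), (ir 1, 2)], [(ir 9, 0), (il 1, 1), (ir 2, 2)], [(ir 10, 0), (ir 7, 1), (ir 3, 2), (ir 0, 3)], [(ir 11, 0), (ir 8, 1), (ir 4, 2), (ir 1, 3)]],
    #[[(il 0, 0), (ir 3, 1)], [(il 1, 0), (ir 3, 1)], [(ir 0, 0)], [(ir 1, 0)], [(ir 2, 0), (ir 0, 1)], [(ir 3, 0)], [(ir 4, 0), (ir 0, 2)], [(ir 5, 0)], [(ir 6, 0), (ir 4, 1), (ir 2, 2), (ir 0, 3)], [(ir 7, 0), (ir 5, 1)], [(ir 8, 0), (il 0, 1), (il 1, 1), (ir 3, 2)], [(ir 9, 0), (ir 5, 2)], [(ir 10, 0)], [(ir 11, 0), (ir 9, 1), (ir 7, 2), (ir 5, 3)]],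
    #[[(il 0, 0)], [(il 1, 0), (ir 4, 1)], [(ir 0, 0)], [(ir 1, 0)], [(ir 2, 0), (ir 1, 1)], [(ir 3, 0), (ir 1, 2)], [(ir 4, 0)], [(ir 5, 0), (ir 3, 1), (ir 2, 2), (ir 1, 3)], [(ir 6, 0)], [(ir 7, 0), (il 0, 1), (ir 4, 2)], [(ir 8, 0), (ir 6, 1)], [(ir 9, 0), (ir 6, 2)], [(ir 10, 0), (ir 9, 1), (ir 8, 2), (ir 6, 3)], [(ir 11, 0)]],
    #[[(il 0, 0), (ir 5, 1)], [(il 1, 0)], [(ir 0, 0)], [(ir 1, 0), (ir 0, 1)], [(ir 2, 0)], [(ir 3, 0)], [(ir 4, 0), (ir 3, 1)], [(ir 5, 0)], [(ir 6, 0), (il 1, 1), (ir 5, 2)], [(ir 7, 0)], [(ir 8, 0), (ir 7, 1)], [(ir 9, 0)], [(ir 10, 0)], [(ir 11, 0), (ir 10, 1)]],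
    #[[(il 0, 0), (ir 6, 1)], [(il 1, 0)], [(ir 0, 0), (ir 1, 1)], [(ir 1, 0)], [(ir 2, 0)], [(ir 3, 0), (ir 4, 1)], [(ir 4, 0)], [(ir 5, 0), (il 1, 1), (ir 6, 2)], [(ir 6, 0)], [(ir 7, 0), (ir 8, 1)], [(ir 8, 0)], [(ir 9, 0)], [(ir 10, 0), (ir 11, 1)], [(ir 11, 0)]],
    #[[(il 0, 0)], [(il 1, 0), (ir 7, 1)], [(ir 0, 0)], [(ir 1, 0), (ir 2, 1), (ir 3, 2), (ir 5, 3)], [(ir 2, 0), (ir 5, 2)], [(ir 3, 0), (ir 5, 1)], [(ir 4, 0), (il 0, 1), (ir 7, 2)], [(ir 5, 0)], [(ir 6, 0), (ir 8, 1), (ir 9, 2), (ir 10, 3)], [(ir 7, 0)], [(ir 8, 0), (ir 10, 2)], [(ir 9, 0), (ir 10, 1)], [(ir 10, 0)], [(ir 11, 0)]],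
    #[[(il 0, 0), (ir 8, 1)], [(il 1, 0), (ir 8, 1)], [(ir 0, 0), (ir 2, 1), (ir 4, 2), (ir 6, 3)], [(ir 1, 0)], [(ir 2, 0), (ir 6, 2)], [(ir 3, 0), (il 0, 1), (il 1, 1), (ir 8, 2)], [(ir 4, 0), (ir 6, 1)], [(ir 5, 0), (ir 7, 1), (ir 9, 2), (ir 11, 3)], [(ir 6, 0)], [(ir 7, 0), (ir 11, 2)], [(ir 8, 0)], [(ir 9, 0), (ir 11, 1)], [(ir 10, 0)], [(ir 11, 0)]],
    #[[(il 0, 0), (ir 9, 1)], [(il 1, 0)], [(ir 0, 0), (ir 3, 1), (ir 7, 2), (ir 10, 3)], [(ir 1, 0), (ir 4, 1), (ir 8, 2), (ir 11, 3)], [(ir 2, 0), (il 1, 1), (ir 9, 2)], [(ir 3, 0), (ir 10, 2)], [(ir 4, 0), (ir 11, 2)], [(ir 5, 0)], [(ir 6, 0)], [(ir 7, 0), (ir 10, 1)], [(ir 8, 0), (ir 11, 1)], [(ir 9, 0)], [(ir 10, 0)], [(ir 11, 0)]],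
    #[[(il 0, 0), (ir 10, 1)], [(il 1, 0), (ir 10, 1)], [(ir 0, 0), (ir 5, 1)], [(ir 1, 0), (il 0, 1), (il 1, 1), (ir 10, 2)], [(ir 2, 0), (ir 7, 1)], [(ir 3, 0)], [(ir 4, 0), (ir 9, 1)], [(ir 5, 0)], [(ir 6, 0), (ir 11, 1)], [(ir 7, 0)], [(ir 8, 0)], [(ir 9, 0)], [(ir 10, 0)], [(ir 11, 0)]],
    #[[(il 0, 0)], [(il 1, 0), (ir 11, 1)], [(ir 0, 0), (il 0, 1), (ir 11, 2)], [(ir 1, 0), (ir 6, 1)], [(ir 2, 0), (ir 8, 1)], [(ir 3, 0), (ir 9, 1)], [(ir 4, 0)], [(ir 5, 0), (ir 10, 1)], [(ir 6, 0)], [(ir 7, 0)], [(ir 8, 0)], [(ir 9, 0)], [(ir 10, 0)], [(ir 11, 0)]]]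

/-- The monomials of column `u` of the root element with index `r`. -/
def colList (r : ℕ) (u : Ix) : List (Ix × ℕ) := (colTable.getD r #[]).getD (ixNum u) []

theorem xMat_eq_colList : ∀ (r : Fin chevG2.nroots) (t : F4) (u w : Ix),
    chevG2.xMat F4 r t w u =
      ((colList r u).map fun p => if p.1 = w then t ^ p.2 else 0).sum := by
  decide +kernel

theorem sum_smul_eq (f : Ix → M6) (t : F4) : ∀ l : List (Ix × ℕ),
    ∑ w, (l.map fun p => if p.1 = w then t ^ p.2 else 0).sum • f w =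
      (l.map fun p => t ^ p.2 • f p.1).sum := by
  intro l
  induction l with
  | nil => simp
  | cons p l ih => simp [add_smul, Finset.sum_add_distrib, ih, ite_smul]

/-- The matrix of a list of monomials. -/
def monoMat (t : F4) (L : List Mono) : M6 :=
  (L.map fun x => Matrix.single x.1 x.2.1 (t ^ x.2.2)).sum

/-- The product of two lists of monomials. -/
def monoMul (a b : List Mono) : List Mono :=
  a.flatMap fun x => (b.filter fun y => x.2.1 = y.1).map fun y => (x.1, y.2.1, x.2.2 + y.2.2)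

/-- The monomials of a root element. -/
def rootList (r : ℕ) : List Mono :=
  (List.finRange 6).map (fun i => (i, i, 0)) ++
    ((linPos.getD r []).map fun p => (p.1, p.2, 1)) ++
    ((quadPos.getD r []).map fun p => (p.1, p.2, 2))

/-- The monomials of the image of a basis vector, times `t ^ k`. -/
def basisList (u : Ix) (k : ℕ) : List Mono := (basisPos u).map fun p => (p.1, p.2, k)

theorem monoMat_append (t : F4) (a b : List Mono) :
    monoMat t (a ++ b) = monoMat t a + monoMat t b := by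
  simp [monoMat]

theorem monoMat_mul (t : F4) (a b : List Mono) :
    monoMat t a * monoMat t b = monoMat t (monoMul a b) := by
  induction a with
  | nil => simp [monoMat, monoMul]
  | cons x a ih =>
    have hx : ∀ b : List Mono, Matrix.single x.1 x.2.1 (t ^ x.2.2) * monoMat t b =
        monoMat t ((b.filter fun y => x.2.1 = y.1).map fun y => (x.1, y.2.1, x.2.2 + y.2.2)) := by
      intro b
      induction b with
      | nil => simp [monoMat]
      | cons y b ihb =>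
        rw [monoMat, List.map_cons, List.sum_cons, mul_add, ← monoMat, ihb, List.filter_cons]
        by_cases h : x.2.1 = y.1
        · rw [if_pos (by simpa using h), List.map_cons, ← h, Matrix.single_mul_single_same]
          simp [monoMat, pow_add]
        · rw [if_neg (by simpa using h), Matrix.single_mul_single_of_ne (h := h), zero_add]
    rw [monoMat, List.map_cons, List.sum_cons, add_mul, ← monoMat, ih, hx,
      show monoMul (x :: a) b = _ ++ monoMul a b from List.flatMap_cons .., monoMat_append]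

theorem f4_add_self : ∀ a : F4, a + a = 0 := by decide

theorem m6_add_self (A : M6) : A + A = 0 := by
  ext i j
  exact f4_add_self _

/-- A sum in which every term occurs an even number of times vanishes. -/
theorem monoMat_eq_zero (t : F4) (L : List Mono) (h : (L.all fun x => L.count x % 2 == 0) = true) :
    monoMat t L = 0 := by
  rw [monoMat, Finset.sum_list_map_count]
  refine Finset.sum_eq_zero fun x hx => ?_
  have := List.all_eq_true.1 h x (List.mem_toFinset.1 hx)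
  obtain ⟨m, hm⟩ := Nat.dvd_of_mod_eq_zero (by simpa using this : L.count x % 2 = 0)
  simp only [List.count_eq_countP, beq_eq_decide] at hm ⊢
  rw [hm, mul_nsmul, two_nsmul, m6_add_self, smul_zero]

theorem rootMat_eq_monoMat : ∀ (r : Fin chevG2.nroots) (t : F4),
    rootMat r t = monoMat t (rootList r) := by
  decide +kernel

theorem basisMat_eq_monoMat : ∀ u : Ix, basisMat u = monoMat 0 (basisList u 0) := by
  decide +kernel

theorem even_count : ∀ (r : Fin chevG2.nroots) (u : Ix),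
    let L := monoMul (rootList r) (basisList u 0) ++
      monoMul ((colList r u).flatMap fun p => basisList p.1 p.2) (rootList r)
    (L.all fun x => L.count x % 2 == 0) = true := by
  decide +kernel

theorem monoMat_basisList (t : F4) (u : Ix) (k : ℕ) :
    monoMat t (basisList u k) = t ^ k • basisMat u := by
  rw [basisMat_eq_monoMat, monoMat, monoMat, basisList, basisList, List.map_map, List.map_map,
    List.smul_sum, List.map_map]
  congr 1
  refine List.map_congr_left fun p _ => ?_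
  simp [Matrix.smul_single]

theorem rootMat_intertwine : ∀ (r : Fin chevG2.nroots) (t : F4) (u : Ix), rootMat r t * basisMat u =
    (∑ w, chevG2.xMat F4 r t w u • basisMat w) * rootMat r t := by
  intro r t u
  simp only [xMat_eq_colList, sum_smul_eq]
  have hb : monoMat t (basisList u 0) = basisMat u := by simp [monoMat_basisList]
  have hc : ∀ l : List (Ix × ℕ), monoMat t (l.flatMap fun p => basisList p.1 p.2) =
      (l.map fun p => t ^ p.2 • basisMat p.1).sum := by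
    intro l
    induction l with
    | nil => simp [monoMat]
    | cons p l ih => simp [monoMat_append, ih, monoMat_basisList]
  have h := monoMat_eq_zero t _ (even_count r u)
  rw [monoMat_append, ← monoMat_mul, ← monoMat_mul, hb, hc, ← rootMat_eq_monoMat] at h
  have key : ∀ A B : M6, A + B = 0 → A = B := fun A B hAB => by
    have := congrArg (· + B) hAB
    simpa [add_assoc, m6_add_self] using this
  exact key _ _ h

end CfsgLib.GTwoFour
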