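import Cfsg.Agent.GTwoFour.Intertwine
import Cfsg.Agent.Chevalley.Element
import Cfsg.Agent.Chevalley.GoodG2
import Mathlib.Data.Matrix.Basis
import Mathlib.LinearAlgebra.Matrix.GeneralLinearGroup.Defs

/-!
# The faithful six-dimensional representation of `G₂(4)`

The pairs `(x, g)` for which conjugation by `g` induces `x` on the adjoint module form a group; its
part generated by the root elements projects isomorphically to both sides.
-/

set_option autoImplicit false

namespace CfsgLib.GTwoFour

open Cfsg.Lie CfsgLib.CriticalFive CfsgLib.Chevalley Matrix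
open scoped MatrixGroups

/-- The image of the column `u` of a matrix. -/
def colMat (X : Matrix Ix Ix F4) (u : Ix) : M6 := ∑ w, X w u • basisMat w

theorem colMat_one (u : Ix) : colMat 1 u = basisMat u := by
  simp [colMat, Matrix.one_apply, ite_smul]

theorem mul_colMat {X : Matrix Ix Ix F4} {g : M6} (h : ∀ u, g * basisMat u = colMat X u * g)
    (Y : Matrix Ix Ix F4) (u : Ix) : g * colMat Y u = colMat (X * Y) u * g := by
  rw [colMat, Finset.mul_sum]
  simp_rw [mul_smul_comm, h, ← smul_mul_assoc]
  rw [← Finset.sum_mul]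
  congr 1
  simp only [colMat, Finset.smul_sum, smul_smul, Matrix.mul_apply, Finset.sum_smul]
  rw [Finset.sum_comm]
  exact Finset.sum_congr rfl fun z _ => Finset.sum_congr rfl fun w _ => by rw [mul_comm]

/-- Pairs compatible with the adjoint module and the form. -/
def compat : Subgroup (GL Ix F4 × GL (Fin 6) F4) where
  carrier := {p | (∀ u, (p.2 : M6) * basisMat u = colMat (p.1 : Matrix Ix Ix F4) u * (p.2 : M6)) ∧
    (p.2 : M6) * formMat * (p.2 : M6)ᵀ = formMat}
  one_mem' := ⟨fun u => by simp [colMat_one], by simp⟩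
  mul_mem' {a b} ha hb := by
    refine ⟨fun u => ?_, ?_⟩
    · simp only [Prod.fst_mul, Prod.snd_mul, Units.val_mul]
      rw [mul_assoc, hb.1 u, ← mul_assoc, mul_colMat ha.1, mul_assoc]
    · simp only [Prod.snd_mul, Units.val_mul, transpose_mul]
      calc (a.2 : M6) * b.2 * formMat * ((b.2 : M6)ᵀ * (a.2 : M6)ᵀ) =
          a.2 * ((b.2 : M6) * formMat * (b.2 : M6)ᵀ) * (a.2 : M6)ᵀ := by
            simp only [mul_assoc]
        _ = formMat := by rw [hb.2, ha.2]
  inv_mem' {a} ha := by
    refine ⟨fun u => ?_, ?_⟩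
    · have h := mul_colMat ha.1 ((a.1⁻¹ : GL Ix F4) : Matrix Ix Ix F4) u
      rw [← Units.val_mul, mul_inv_cancel, Units.val_one, colMat_one] at h
      simp only [Prod.fst_inv, Prod.snd_inv]
      rw [Units.inv_mul_eq_iff_eq_mul, ← mul_assoc, h, mul_assoc, Units.mul_inv, mul_one]
    · simp only [Prod.snd_inv]
      conv_lhs => rw [← ha.2]
      rw [← mul_assoc, ← mul_assoc, Units.inv_mul, one_mul, mul_assoc, ← transpose_mul,
        Units.inv_mul, transpose_one, mul_one]

/-- The root element on the natural module, as a unit. -/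
def rootUnit (r : Fin chevG2.nroots) (t : F4) : GL (Fin 6) F4 :=
  ⟨rootMat r t, rootMat r t, rootMat_mul_self r t, rootMat_mul_self r t⟩

/-- The pairs of root elements. -/
def pairSet : Set (GL Ix F4 × GL (Fin 6) F4) :=
  {p | ∃ r t, p = (X good_chevG2 r t, rootUnit r t)}

/-- The group generated by the pairs of root elements. -/
def pairGroup : Subgroup (GL Ix F4 × GL (Fin 6) F4) := Subgroup.closure pairSet

theorem pairGroup_le : pairGroup ≤ compat := by
  refine (Subgroup.closure_le _).2 ?_
  rintro _ ⟨r, t, rfl⟩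
  refine ⟨fun u => ?_, rootMat_symp r t⟩
  show rootMat r t * basisMat u = colMat ((X good_chevG2 r t : GL Ix F4) : Matrix Ix Ix F4) u * _
  rw [← x_eq_xR good_chevG2 F4 r t |>.trans (coe_X good_chevG2 r t).symm,
    ChevalleyDatum.x, dif_pos r.isLt]
  exact rootMat_intertwine r t u

theorem f4_sq_eq_one : ∀ a : F4, a * a = 1 → a = 1 := by decide

theorem snd_eq_one {p : GL Ix F4 × GL (Fin 6) F4} (hp : p ∈ compat) (h : p.1 = 1) : p.2 = 1 := by
  obtain ⟨hc, hf⟩ := hp
  have hcb : ∀ u, Commute (p.2 : M6) (basisMat u) := fun u => by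
    have := hc u
    rwa [h, Units.val_one, colMat_one] at this
  have hsingle : ∀ i j, Commute (Matrix.single i j (1 : F4)) (p.2 : M6) := fun i j => by
    rw [← unitWord_prod]
    refine Commute.list_prod_left _ _ fun x hx => ?_
    obtain ⟨u, -, rfl⟩ := List.mem_map.1 hx
    exact (hcb u).symm
  obtain ⟨a, ha⟩ := Matrix.mem_range_scalar_of_commute_single (M := (p.2 : M6)) fun i j _ => hsingle i j
  rw [← ha, scalar_apply, ← smul_one_eq_diagonal, smul_mul_assoc, one_mul, transpose_smul,
    transpose_one, mul_smul_comm, mul_one, smul_smul] at hf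
  have ha1 : a * a = 1 := by
    have := congrFun (congrFun hf 0) 5
    rw [Matrix.smul_apply, show formMat 0 5 = 1 from rfl, smul_eq_mul, mul_one] at this
    exact this
  refine Units.ext ?_
  rw [← ha, f4_sq_eq_one a ha1]
  simp

theorem fst_eq_one {p : GL Ix F4 × GL (Fin 6) F4} (hp : p ∈ compat) (h : p.2 = 1) : p.1 = 1 := by
  refine Units.ext (Matrix.ext fun v u => ?_)
  have hu := hp.1 u
  rw [h, Units.val_one, one_mul, mul_one] at hu
  have key : ∀ Y : M6, Y = colMat (p.1 : Matrix Ix Ix F4) u →
      ((coordPos v).map fun q => Y q.1 q.2).sum = (p.1 : Matrix Ix Ix F4) v u := by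
    rintro Y rfl
    have hl : ∀ l : List (Fin 6 × Fin 6),
        (l.map fun q => colMat (p.1 : Matrix Ix Ix F4) u q.1 q.2).sum =
          ∑ w, (p.1 : Matrix Ix Ix F4) w u * (l.map fun q => basisMat w q.1 q.2).sum := by
      intro l
      induction l with
      | nil => simp
      | cons q l ih =>
        simp only [List.map_cons, List.sum_cons, mul_add, Finset.sum_add_distrib, ih]
        simp [colMat, Matrix.sum_apply]
    simp [hl, coord_basis]
  rw [← key _ hu, coord_basis, Units.val_one, Matrix.one_apply]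
  by_cases huv : v = u <;> simp [huv, eq_comm]

/-- The first projection. -/
def projFst : pairGroup →* GL Ix F4 := (MonoidHom.fst _ _).comp pairGroup.subtype

/-- The second projection. -/
def projSnd : pairGroup →* GL (Fin 6) F4 := (MonoidHom.snd _ _).comp pairGroup.subtype

theorem projFst_injective : Function.Injective projFst := by
  rw [injective_iff_map_eq_one]
  rintro ⟨p, hp⟩ h
  exact Subtype.ext (Prod.ext h (snd_eq_one (pairGroup_le hp) h))

theorem projSnd_injective : Function.Injective projSnd := by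
  rw [injective_iff_map_eq_one]
  rintro ⟨p, hp⟩ h
  exact Subtype.ext (Prod.ext (fst_eq_one (pairGroup_le hp) h) h)

theorem range_projFst : projFst.range = chevG2.group F4 := by
  rw [projFst, MonoidHom.range_comp, Subgroup.range_subtype, pairGroup, MonoidHom.map_closure,
    group_eq_closure good_chevG2]
  congr 1
  ext g
  constructor
  · rintro ⟨_, ⟨r, t, rfl⟩, rfl⟩
    exact ⟨r, t, rfl⟩
  · rintro ⟨r, t, rfl⟩
    exact ⟨_, ⟨r, t, rfl⟩, rfl⟩

/-- The pairs as the Chevalley group. -/
noncomputable def pairEquiv : pairGroup ≃* ↥(chevG2.group F4) :=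
  (MonoidHom.ofInjective projFst_injective).trans (MulEquiv.subgroupCongr range_projFst)

/-- The six-dimensional representation. -/
noncomputable def rep : ↥(chevG2.group F4) →* GL (Fin 6) F4 :=
  projSnd.comp pairEquiv.symm.toMonoidHom

theorem rep_injective : Function.Injective rep :=
  projSnd_injective.comp pairEquiv.symm.injective

theorem exists_rep_eq_wordMat (w : List (Fin chevG2.nroots × F4)) :
    ∃ g : ↥(chevG2.group F4), (rep g : M6) = (w.map fun p => rootMat p.1 p.2).prod := by
  induction w with
  | nil => exact ⟨1, by simp⟩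
  | cons p w ih =>
    obtain ⟨g, hg⟩ := ih
    refine ⟨pairEquiv ⟨(X good_chevG2 p.1 p.2, rootUnit p.1 p.2),
      Subgroup.subset_closure ⟨p.1, p.2, rfl⟩⟩ * g, ?_⟩
    rw [map_mul, Units.val_mul, hg, List.map_cons, List.prod_cons]
    simp [rep, projSnd, rootUnit]

end CfsgLib.GTwoFour
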